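import Groth.Agent.Lib.ModM1.LocFree
import Groth.Agent.Lib.ModM1.Stalk
import Groth.Agent.Lib.ModM1.Coh
import Mathlib.Algebra.Category.ModuleCat.Stalk
import Mathlib.Algebra.Category.Ring.FilteredColimits
import Mathlib.RingTheory.SimpleModule.Basic

/-!
# Stalkwise projective modules over a finite locally free sheaf of algebras
-/

set_option autoImplicit false
set_option linter.style.haveILetI false
set_option backward.isDefEq.respectTransparency false
set_option backward.isDefEq.respectTransparency.types false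
set_option maxHeartbeats 800000

universe u

open CategoryTheory CategoryTheory.Limits AlgebraicGeometry TopologicalSpace Opposite TopCat.Presheaf

noncomputable section

namespace Groth.Agent.OrdProj16

open Groth.Agent

variable {X : Scheme.{u}} {A : Sheaf (Opens.grothendieckTopology X) RingCat.{u}}
  (φ : X.ringCatSheaf ⟶ A)

/-- the stalk of the sheaf of rings -/
abbrev Ax (A : Sheaf (Opens.grothendieckTopology X) RingCat.{u}) (x : X) : Type u :=
  ↑(TopCat.Presheaf.stalk (C := RingCat.{u}) (X := X.carrier) A.obj x)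

/-- the algebra as a module -/
abbrev RA : X.Modules := (SheafOfModules.restrictScalars φ).obj (SheafOfModules.unit A)

/-- the stalk of the algebra as a module, to the stalk of the sheaf of rings -/
def θ (x : X) : (RA φ).presheaf.stalk x →+ Ax A x :=
  (colimit.desc ((OpenNhds.inclusion x).op ⋙ (RA φ).presheaf)
    (Cocone.mk (AddCommGrpCat.of (Ax A x))
      { app := fun U => AddCommGrpCat.ofHom
          (TopCat.Presheaf.germ (C := RingCat.{u}) (X := X.carrier) A.obj U.unop.1 x
            U.unop.2).hom.toAddMonoidHom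
        naturality := fun U V f => by
          ext a
          exact TopCat.Presheaf.germ_res_apply (X := X.carrier) A.obj _ x _ a })).hom

theorem θ_germ {U : X.Opens} {x : X} (hx : x ∈ U) (a : A.obj.obj (op U)) :
    θ φ x ((RA φ).presheaf.germ U x hx a) =
      TopCat.Presheaf.germ (C := RingCat.{u}) (X := X.carrier) A.obj U x hx a :=
  ConcreteCategory.congr_hom (colimit.ι_desc (C := Ab.{u}) (F := (OpenNhds.inclusion x).op ⋙ (RA φ).presheaf)
    (Cocone.mk (AddCommGrpCat.of (Ax A x))
      { app := fun U => AddCommGrpCat.ofHom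
          (TopCat.Presheaf.germ (C := RingCat.{u}) (X := X.carrier) A.obj U.unop.1 x
            U.unop.2).hom.toAddMonoidHom
        naturality := fun U V f => by
          ext a
          exact TopCat.Presheaf.germ_res_apply (X := X.carrier) A.obj _ x _ a }) (op ⟨U, hx⟩)) a

theorem θ_bijective (x : X) : Function.Bijective (θ φ x) := by
  constructor
  · refine (injective_iff_map_eq_zero _).2 fun m hm => ?_
    obtain ⟨U, hx, a, rfl⟩ := TopCat.Presheaf.germ_exist (X := X.carrier) (RA φ).presheaf m
    rw [θ_germ, ← map_zero (TopCat.Presheaf.germ (C := RingCat.{u}) (X := X.carrier) A.obj U x hx).hom] at hm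
    obtain ⟨W, hxW, i, j, e⟩ := TopCat.Presheaf.germ_eq (X := X.carrier) A.obj x hx hx a 0 hm
    refine (TopCat.Presheaf.germ_res_apply (X := X.carrier) (RA φ).presheaf i x hxW a).symm.trans ?_
    refine (congrArg ((RA φ).presheaf.germ W x hxW) (e.trans (map_zero _))).trans ?_
    exact map_zero _
  · intro a
    obtain ⟨U, hx, a, rfl⟩ := TopCat.Presheaf.germ_exist (X := X.carrier) A.obj a
    exact ⟨_, θ_germ φ hx a⟩

/-- the scalar, in the stalk of the sheaf of rings -/
def sc (x : X) (c : X.presheaf.stalk x) : Ax A x :=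
  θ φ x (c • (RA φ).presheaf.germ ⊤ x trivial (1 : A.obj.obj (op ⊤)))

theorem sc_germ {U : X.Opens} {x : X} (hx : x ∈ U) (c : Γ(X, U)) :
    sc φ x (X.presheaf.germ U x hx c) =
      TopCat.Presheaf.germ (C := RingCat.{u}) (X := X.carrier) A.obj U x hx (φ.hom.app (op U) c) := by
  have e : (RA φ).presheaf.germ ⊤ x trivial (1 : A.obj.obj (op ⊤)) =
      (RA φ).presheaf.germ U x hx (1 : A.obj.obj (op U)) := by
    refine (TopCat.Presheaf.germ_res_apply (X := X.carrier) (RA φ).presheaf
      (homOfLE (le_top : U ≤ ⊤)) x hx (1 : A.obj.obj (op ⊤))).symm.trans ?_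
    exact congrArg _ (map_one (A.obj.map (homOfLE (le_top : U ≤ ⊤)).op).hom)
  refine (congrArg (θ φ x) ((congrArg (_ • ·) e).trans (M1.germ_smul (RA φ) hx c _).symm)).trans ?_
  refine (θ_germ φ hx _).trans (congrArg _ ?_)
  exact mul_one (φ.hom.app (op U) c)

theorem θ_smul (x : X) (c : X.presheaf.stalk x) (a : (RA φ).presheaf.stalk x) :
    θ φ x (c • a) = sc φ x c * θ φ x a := by
  obtain ⟨U, hU, c, rfl⟩ := TopCat.Presheaf.germ_exist (X := X.carrier) X.presheaf c
  obtain ⟨V, hV, a, rfl⟩ := TopCat.Presheaf.germ_exist (X := X.carrier) (RA φ).presheaf a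
  have hUV : x ∈ U ⊓ V := ⟨hU, hV⟩
  rw [← TopCat.Presheaf.germ_res_apply (X := X.carrier) X.presheaf (homOfLE (inf_le_left : U ⊓ V ≤ U)) x hUV c,
    ← TopCat.Presheaf.germ_res_apply (X := X.carrier) (RA φ).presheaf (homOfLE (inf_le_right : U ⊓ V ≤ V)) x hUV a]
  refine (congrArg (θ φ x) (M1.germ_smul (RA φ) hUV _ _).symm).trans ?_
  refine (θ_germ φ (U := U ⊓ V) hUV _).trans ?_
  refine ((TopCat.Presheaf.germ (C := RingCat.{u}) (X := X.carrier) A.obj (U ⊓ V) x hUV).hom.map_mul _ _).trans ?_
  exact congrArg₂ (· * ·) (sc_germ φ (U := U ⊓ V) hUV _).symm (θ_germ φ (U := U ⊓ V) hUV _).symm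

variable (M : SheafOfModules.{u} A)

/-- the module over the structure sheaf -/
abbrev RM : X.Modules := (SheafOfModules.restrictScalars φ).obj M

theorem smul_eq (x : X) (c : X.presheaf.stalk x)
    (m : ((RM φ M)).presheaf.stalk x) :
    c • m = (sc φ x c • (show ↑(TopCat.Presheaf.stalk (C := Ab.{u}) (X := X.carrier) M.val.presheaf x) from m) :) := by
  obtain ⟨U, hU, c, rfl⟩ := TopCat.Presheaf.germ_exist (X := X.carrier) X.presheaf c
  obtain ⟨V, hV, a, rfl⟩ := TopCat.Presheaf.germ_exist (X := X.carrier)
    (RM φ M).presheaf m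
  have hUV : x ∈ U ⊓ V := ⟨hU, hV⟩
  rw [← TopCat.Presheaf.germ_res_apply (X := X.carrier) X.presheaf (homOfLE (inf_le_left : U ⊓ V ≤ U)) x hUV c,
    ← TopCat.Presheaf.germ_res_apply (X := X.carrier)
      (RM φ M).presheaf (homOfLE (inf_le_right : U ⊓ V ≤ V)) x hUV a]
  refine (M1.germ_smul (RM φ M) (U := U ⊓ V) hUV _ _).symm.trans ?_
  refine (PresheafOfModules.germ_ringCat_smul (X := X.carrier) M.val x (U ⊓ V) hUV _ _).trans ?_
  exact congrArg (· • _) (sc_germ φ (U := U ⊓ V) hUV _).symm

/-- Stalks projective over the algebra are projective over the structure sheaf. -/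
theorem projective_stalk (x : X) (hfree : Module.Free (X.presheaf.stalk x) ((RA φ).presheaf.stalk x))
    (hMp : Module.Projective (Ax A x)
      ↑(TopCat.Presheaf.stalk (C := Ab.{u}) (X := X.carrier) M.val.presheaf x)) :
    Module.Projective (X.presheaf.stalk x)
      ((RM φ M).presheaf.stalk x) := by
  classical
  obtain ⟨s, hs⟩ := hMp.out
  let e : (RA φ).presheaf.stalk x ≃+ Ax A x := AddEquiv.ofBijective (θ φ x) (θ_bijective φ x)
  let N := ↑(TopCat.Presheaf.stalk (C := Ab.{u}) (X := X.carrier) M.val.presheaf x)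
  let σ : ((RM φ M).presheaf.stalk x) →ₗ[X.presheaf.stalk x]
      (N →₀ (RA φ).presheaf.stalk x) :=
    { toFun := fun m => (s m).mapRange e.symm (map_zero _)
      map_add' := fun a b => by
        refine (congrArg (Finsupp.mapRange e.symm (map_zero _)) (s.map_add a b)).trans ?_
        exact Finsupp.mapRange_add (fun _ _ => map_add _ _ _) _ _
      map_smul' := fun c m => by
        refine (congrArg (Finsupp.mapRange e.symm (map_zero _))
          ((congrArg s (smul_eq φ M x c m)).trans (s.map_smul _ _))).trans ?_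
        ext l
        rw [Finsupp.mapRange_apply, Finsupp.smul_apply, RingHom.id_apply, Finsupp.smul_apply,
          Finsupp.mapRange_apply, smul_eq_mul]
        apply e.injective
        rw [AddEquiv.apply_symm_apply]
        exact ((θ_smul φ x c _).trans (congrArg (sc φ x c * ·) (e.apply_symm_apply _))).symm }
  let π : (N →₀ (RA φ).presheaf.stalk x) →ₗ[X.presheaf.stalk x]
      ((RM φ M).presheaf.stalk x) :=
    Finsupp.lsum ℕ fun l : N =>
      { toFun := fun a => (θ φ x a • l :)
        map_add' := fun a b => (congrArg (· • l) (map_add (θ φ x) a b)).trans (add_smul _ _ _)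
        map_smul' := fun c a => ((congrArg (· • l) (θ_smul φ x c a)).trans (mul_smul _ _ _)).trans
          (smul_eq φ M x c _).symm }
  refine Module.Projective.of_split σ π (LinearMap.ext fun m => ?_)
  show Finsupp.sum ((s m).mapRange e.symm (map_zero _)) (fun l a => (θ φ x a • l : N)) = _
  rw [Finsupp.sum_mapRange_index (fun l => by rw [map_zero, zero_smul])]
  refine Eq.trans ?_ (hs m)
  rw [Finsupp.linearCombination_apply]
  refine Finsupp.sum_congr fun l _ => ?_
  exact congrArg (· • l) (e.apply_symm_apply _)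

/-- Coherent and stalkwise projective over the algebra implies finite locally free. -/
theorem isFinLocFree [IsLocallyNoetherian X] (hA : FlatMod.IsFinLocFree (X := X) (RA φ))
    (hMc : Coh.IsCoh (X := X) ((SheafOfModules.restrictScalars φ).obj M))
    (hMp : ∀ x : X, Module.Projective (Ax A x)
      ↑(TopCat.Presheaf.stalk (C := Ab.{u}) (X := X.carrier) M.val.presheaf x)) :
    FlatMod.IsFinLocFree (X := X) ((SheafOfModules.restrictScalars φ).obj M) := by
  have hFP := M1.isFP_of_isCoh hMc
  refine (M1.isFinLocFree_iff _).2 ⟨hFP, fun x => M1.free_stalk_of_flat hFP x ?_⟩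
  haveI := projective_stalk φ M x (((M1.isFinLocFree_iff _).1 hA).2 x) (hMp x)
  exact Module.Flat.of_projective

end Groth.Agent.OrdProj16
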